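import Cfsg.Agent.H617.Two.Defs
import Cfsg.Agent.H767.EssFrat
import Cfsg.Agent.H530.KulMax
import Cfsg.Agent.Lib.FrattiniPGroup

/-!
# S4543, T8: automorphisms of odd order of the groups of order 64 in `Good`

`T8`: a nonabelian group `D` with `Good D` has no nontrivial automorphism of odd order.
-/

set_option autoImplicit false

namespace Cfsg.Agent.H887.Two

open Subgroup Cfsg.Agent.H617.Two
open scoped commutatorElement

variable {D : Type*} [Group D]

/-- a subgroup of index two is determined by its trace on a generating pair -/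
theorem ext_two {a b : D} (hab : closure ({a, b} : Set D) = ⊤) {M M' : Subgroup D}
    (hM : M.index = 2) (hM' : M'.index = 2) (h1 : a ∈ M ↔ a ∈ M') (h2 : b ∈ M ↔ b ∈ M') :
    M = M' := by
  let S : Subgroup D :=
    { carrier := {x | x ∈ M ↔ x ∈ M'}
      one_mem' := by simp
      mul_mem' := by
        intro x y hx hy
        simp only [Set.mem_ofPred_eq] at hx hy ⊢
        rw [mul_mem_iff_of_index_two hM, mul_mem_iff_of_index_two hM', hx, hy]
      inv_mem' := by
        intro x hx
        simp only [Set.mem_ofPred_eq] at hx ⊢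
        rw [inv_mem_iff, inv_mem_iff, hx] }
  have hS : S = ⊤ := by
    rw [eq_top_iff, ← hab, closure_le]
    intro x hx
    rcases hx with rfl | rfl
    · exact h1
    · exact h2
  ext x
  have : x ∈ S := hS ▸ mem_top x
  exact this

theorem not_both {a b : D} (hab : closure ({a, b} : Set D) = ⊤) {M : Subgroup D}
    (hM : M.index = 2) : ¬ (a ∈ M ∧ b ∈ M) := by
  rintro ⟨h1, h2⟩
  have : M = ⊤ := by
    rw [eq_top_iff, ← hab, closure_le]
    intro x hx
    rcases hx with rfl | rfl
    · exact h1
    · exact h2
  rw [this, index_top] at hM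
  omega

open Classical in
/-- there are at most three subgroups of index two -/
theorem pigeon {a b : D} (hab : closure ({a, b} : Set D) = ⊤) {M₁ M₂ M₃ M₄ : Subgroup D}
    (h1 : M₁.index = 2) (h2 : M₂.index = 2) (h3 : M₃.index = 2) (h4 : M₄.index = 2)
    (h12 : M₁ ≠ M₂) (h13 : M₁ ≠ M₃) (h14 : M₁ ≠ M₄) (h23 : M₂ ≠ M₃) (h34 : M₃ ≠ M₄) : M₂ = M₄ := by
  obtain ⟨c, hc⟩ : ∃ c : Subgroup D → ℕ, ∀ M, c M = if a ∈ M then (if b ∈ M then 3 else 1) else
      (if b ∈ M then 2 else 0) := ⟨_, fun _ => rfl⟩
  have key : ∀ {M M' : Subgroup D}, M.index = 2 → M'.index = 2 → c M = c M' → M = M' := by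
    intro M M' hM hM' h
    rw [hc, hc] at h
    apply ext_two hab hM hM'
    · split_ifs at h <;> simp_all
    · split_ifs at h <;> simp_all
  have nb : ∀ {M : Subgroup D}, M.index = 2 → c M ≤ 2 := by
    intro M hM
    have := not_both hab hM
    rw [hc]
    split_ifs <;> simp_all
  have n1 := nb h1
  have n2 := nb h2
  have n3 := nb h3
  have n4 := nb h4
  have e12 : c M₁ ≠ c M₂ := fun h => h12 (key h1 h2 h)
  have e13 : c M₁ ≠ c M₃ := fun h => h13 (key h1 h3 h)
  have e14 : c M₁ ≠ c M₄ := fun h => h14 (key h1 h4 h)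
  have e23 : c M₂ ≠ c M₃ := fun h => h23 (key h2 h3 h)
  have e34 : c M₃ ≠ c M₄ := fun h => h34 (key h3 h4 h)
  exact key h2 h4 (by omega)

/-- the image of a subgroup of index two -/
theorem index_map (α : MulAut D) {M : Subgroup D} (hM : M.index = 2) :
    (M.map α.toMonoidHom).index = 2 := by
  rw [show M.map α.toMonoidHom = M.map (α : D ≃* D).toMonoidHom from rfl]
  rw [← hM]
  exact Subgroup.index_map_of_bijective α.bijective M

theorem map_map' (α β : MulAut D) (M : Subgroup D) :
    (M.map α.toMonoidHom).map β.toMonoidHom = M.map (β * α : MulAut D).toMonoidHom := by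
  rw [Subgroup.map_map]
  rfl

theorem map_pow (α : MulAut D) {M : Subgroup D} (h : M.map α.toMonoidHom = M) (k : ℕ) :
    M.map (α ^ k : MulAut D).toMonoidHom = M := by
  induction k with
  | zero => rw [pow_zero]; exact Subgroup.map_id M
  | succ k ih => rw [pow_succ', ← map_map', ih, h]

/-- an automorphism of odd order whose square stabilizes `M` stabilizes `M` -/
theorem map_of_sq (α : MulAut D) (ho : Odd (orderOf α)) {M : Subgroup D}
    (h : (M.map α.toMonoidHom).map α.toMonoidHom = M) : M.map α.toMonoidHom = M := by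
  obtain ⟨k, hk⟩ := ho
  have h1 : M.map ((α * α) ^ (k + 1) : MulAut D).toMonoidHom = M := by
    apply map_pow
    rw [← map_map', h]
  have h2 : (α * α) ^ (k + 1) = α := by
    rw [← pow_two, ← pow_mul, show 2 * (k + 1) = (2 * k + 1) + 1 by ring, pow_succ, ← hk,
      pow_orderOf_eq_one, one_mul]
  rw [h2] at h1
  exact h1

variable [Finite D] {α : MulAut D}

/-- a nontrivial automorphism of odd order stabilizes no subgroup of index two -/
theorem no_inv (h2 : IsPGroup 2 D) (hgen : ∃ a b : D, closure ({a, b} : Set D) = ⊤)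
    (ho : Odd (orderOf α)) (h1 : α ≠ 1) {M : Subgroup D} (hM : M.index = 2) :
    M.map α.toMonoidHom ≠ M := by
  have : Fact (Nat.Prime 2) := ⟨Nat.prime_two⟩
  intro hMM
  obtain ⟨a, b, hab⟩ := hgen
  have inj : Function.Injective (fun N : Subgroup D => N.map α.toMonoidHom) :=
    Subgroup.map_injective α.injective
  -- all subgroups of index two are invariant
  have all : ∀ N : Subgroup D, N.index = 2 → N.map α.toMonoidHom = N := by
    intro N hN
    by_contra hne
    have hNM : M ≠ N := by rintro rfl; exact hne hMM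
    have hN1 := index_map α hN
    have hN2 := index_map α hN1
    have hNM1 : M ≠ N.map α.toMonoidHom := by
      intro h
      exact hNM (inj (hMM.trans h))
    have hNM2 : M ≠ (N.map α.toMonoidHom).map α.toMonoidHom := by
      intro h
      exact hNM1 (inj (hMM.trans h))
    have := pigeon hab hM hN hN1 hN2 hNM hNM1 hNM2 (Ne.symm hne) (fun h => hne (inj h).symm)
    exact hne (map_of_sq α ho this.symm)
  apply h1
  apply Cfsg.Agent.H767.EssFrat.eq_one_of_mod_frattini h2 α
    (Nat.Coprime.symm ((Nat.coprime_two_left).2 ho))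
  intro x
  rw [frattini, Order.radical, mem_iInf]
  intro K
  rw [mem_iInf]
  intro hK
  have hKi := Cfsg.Agent.Lib.FrattiniPGroup.index_of_coatom h2 hK
  rw [mul_mem_iff_of_index_two hKi, inv_mem_iff]
  have h3 := all K hKi
  constructor
  · intro hx
    rw [← h3]
    exact mem_map_of_mem _ hx
  · intro hx
    rw [← h3] at hx
    obtain ⟨y, hy, hyx⟩ := hx
    have : y = x := α.injective hyx
    rw [← this]
    exact hy

/-- ... and has order three -/
theorem cube (h2 : IsPGroup 2 D) (hnt : Nontrivial D)
    (hgen : ∃ a b : D, closure ({a, b} : Set D) = ⊤)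
    (ho : Odd (orderOf α)) (h1 : α ≠ 1) : α ^ 3 = 1 := by
  have : Fact (Nat.Prime 2) := ⟨Nat.prime_two⟩
  by_contra h3
  have ho3 : Odd (orderOf (α ^ 3)) := Odd.of_dvd_nat ho (orderOf_pow_dvd 3)
  obtain ⟨M, hMc⟩ := (inferInstance : IsCoatomic (Subgroup D)).eq_top_or_exists_le_coatom ⊥
    |>.resolve_left bot_ne_top
  have hM := Cfsg.Agent.Lib.FrattiniPGroup.index_of_coatom h2 hMc.1
  have g1 := no_inv h2 hgen ho3 h3 hM
  obtain ⟨a, b, hab⟩ := id hgen
  have inj : Function.Injective (fun N : Subgroup D => N.map α.toMonoidHom) :=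
    Subgroup.map_injective α.injective
  have hM1 := index_map α hM
  have hM2 := index_map α hM1
  have hM3 := index_map α hM2
  have k1 := no_inv h2 hgen ho h1 hM
  have k2 := no_inv h2 hgen ho h1 hM1
  have k3 := no_inv h2 hgen ho h1 hM2
  have k4 : (M.map α.toMonoidHom).map α.toMonoidHom ≠ M := fun h => k1 (map_of_sq α ho h)
  have k5 : ((M.map α.toMonoidHom).map α.toMonoidHom).map α.toMonoidHom ≠ M.map α.toMonoidHom :=
    fun h => k4 (inj h)
  have k6 : ((M.map α.toMonoidHom).map α.toMonoidHom).map α.toMonoidHom ≠ M := by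
    intro h
    apply g1
    rw [map_map', map_map'] at h
    rw [show α ^ 3 = α * α * α by rw [pow_succ, pow_two]]
    exact h
  exact k6 (pigeon hab hM1 hM hM2 hM3 k1 (Ne.symm k2) (Ne.symm k5) (Ne.symm k4) (Ne.symm k3)).symm

/-- no nontrivial fixed points on the abelianization -/
theorem fix_ab (h2 : IsPGroup 2 D) (hgen : ∃ a b : D, closure ({a, b} : Set D) = ⊤)
    (ho : Odd (orderOf α)) (h1 : α ≠ 1) (h3 : α ^ 3 = 1) (x : Abelianization D)
    (hx : Abelianization.map α.toMonoidHom x = x) : x = 1 := by
  have : Fact (Nat.Prime 2) := ⟨Nat.prime_two⟩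
  by_contra hne
  obtain ⟨β, hβ⟩ : ∃ β : Abelianization D →* Abelianization D,
    β = Abelianization.map α.toMonoidHom := ⟨_, rfl⟩
  rw [← hβ] at hx
  have hof : ∀ d : D, β (Abelianization.of d) = Abelianization.of (α d) := by
    intro d
    rw [hβ]
    rfl
  have hα3 : ∀ d : D, α (α (α d)) = d := by
    intro d
    have : (α ^ 3) d = d := by rw [h3]; rfl
    exact this
  have hsurj : Function.Surjective (Abelianization.of (G := D)) := QuotientGroup.mk_surjective
  have hβ3 : ∀ y, β (β (β y)) = y := by
    intro y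
    obtain ⟨d, rfl⟩ := hsurj y
    rw [hof, hof, hof, hα3]
  let N : Abelianization D →* Abelianization D := MonoidHom.id _ * β * β.comp β
  have hN : ∀ y, N y = y * β y * β (β y) := fun y => rfl
  have hNβ : ∀ y, N (β y) = N y := by
    intro y
    rw [hN, hN, hβ3, mul_comm (β y * β (β y)) y, mul_assoc]
  have hA2 : IsPGroup 2 (Abelianization D) := h2.to_quotient _
  have hNx : N x ≠ 1 := by
    intro h
    rw [hN, hx, hx] at h
    obtain ⟨k, hk⟩ := IsPGroup.iff_orderOf.1 hA2 x
    have h4 : orderOf x ∣ 3 := by
      apply orderOf_dvd_of_pow_eq_one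
      rw [pow_succ, pow_two]
      exact h
    have h5 : orderOf x = 1 := by
      rw [hk] at h4 ⊢
      exact Nat.Coprime.eq_one_of_dvd (Nat.Coprime.pow_left k (by norm_num)) h4
    exact hne (orderOf_eq_one_iff.1 h5)
  have hnt : Nontrivial N.range := by
    refine ⟨⟨⟨N x, ⟨x, rfl⟩⟩, 1, fun h => hNx (congrArg Subtype.val h)⟩⟩
  obtain ⟨K, hK⟩ := (inferInstance : IsCoatomic (Subgroup N.range)).eq_top_or_exists_le_coatom ⊥
    |>.resolve_left bot_ne_top
  have hKi := Cfsg.Agent.Lib.FrattiniPGroup.index_of_coatom (hA2.to_subgroup N.range) hK.1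
  let f : D →* N.range := N.rangeRestrict.comp Abelianization.of
  have hf : Function.Surjective f := N.rangeRestrict_surjective.comp hsurj
  have hfα : ∀ d, f (α d) = f d := by
    intro d
    apply Subtype.ext
    change N (Abelianization.of (α d)) = N (Abelianization.of d)
    rw [← hof, hNβ]
  have hM : (K.comap f).index = 2 := by rw [index_comap_of_surjective _ hf, hKi]
  apply no_inv h2 hgen ho h1 hM
  ext y
  constructor
  · rintro ⟨d, hd, rfl⟩
    have h6 : f (α d) ∈ K := by rw [hfα]; exact hd
    exact h6
  · intro hy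
    refine ⟨α⁻¹ y, ?_, ?_⟩
    · have h6 : f (α⁻¹ y) ∈ K := by
        rw [← hfα, show α (α⁻¹ y) = y from α.apply_symm_apply y]
        exact hy
      exact h6
    · exact α.apply_symm_apply y

theorem card_ab (h2 : IsPGroup 2 D) (hgen : ∃ a b : D, closure ({a, b} : Set D) = ⊤)
    (ho : Odd (orderOf α)) (h1 : α ≠ 1) (h3 : α ^ 3 = 1) : Nat.card (Abelianization D) % 3 = 1 := by
  classical
  have : Fact (Nat.Prime 3) := ⟨Nat.prime_three⟩
  let f : Function.End (Abelianization D) := fun y => Abelianization.map α.toMonoidHom y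
  have hα3 : ∀ d : D, α (α (α d)) = d := by
    intro d
    have : (α ^ 3) d = d := by rw [h3]; rfl
    exact this
  have hf3 : f ^ 3 ^ 1 = 1 := by
    funext y
    obtain ⟨d, rfl⟩ : ∃ d, Abelianization.of d = y := QuotientGroup.mk_surjective y
    change f (f (f (Abelianization.of d))) = Abelianization.of d
    change Abelianization.of (α (α (α d))) = Abelianization.of d
    rw [hα3]
  let _ := Fintype.ofFinite (Abelianization D)
  have h4 := Equiv.Perm.card_fixedPoints_modEq hf3
  have h5 : Fintype.card f.fixedPoints = 1 := by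
    rw [Fintype.card_eq_one_iff]
    refine ⟨⟨1, map_one (Abelianization.map α.toMonoidHom)⟩, ?_⟩
    rintro ⟨y, hy⟩
    exact Subtype.ext (fix_ab h2 hgen ho h1 h3 y hy)
  have h6 := h4
  rw [← Nat.card_eq_fintype_card, ← Nat.card_eq_fintype_card] at h6
  rw [← Nat.card_eq_fintype_card] at h5
  rw [h5] at h6
  exact h6

omit [Finite D] in
theorem comm_le {a b : D} (hab : closure ({a, b} : Set D) = ⊤) (N : Subgroup D) [N.Normal]
    (h : ⁅a, b⁆ ∈ N) : commutator D ≤ N := by
  have hmk : ∀ x y : D, Commute (QuotientGroup.mk' N x) (QuotientGroup.mk' N y) ↔ ⁅x, y⁆ ∈ N := by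
    intro x y
    rw [← QuotientGroup.eq_one_iff (N := N), commute_iff_eq, ← commutatorElement_eq_one_iff_mul_comm]
    rfl
  have top : ∀ x : D, Commute (QuotientGroup.mk' N x) (QuotientGroup.mk' N a) →
      Commute (QuotientGroup.mk' N x) (QuotientGroup.mk' N b) →
      ∀ y, Commute (QuotientGroup.mk' N x) (QuotientGroup.mk' N y) := by
    intro x h1 h2 y
    have h3 : (centralizer {QuotientGroup.mk' N x}).comap (QuotientGroup.mk' N) = ⊤ := by
      rw [eq_top_iff, ← hab, closure_le]
      intro u hu
      rcases hu with rfl | rfl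
      · exact mem_centralizer_singleton_iff.2 h1.symm.eq
      · exact mem_centralizer_singleton_iff.2 h2.symm.eq
    have h4 : y ∈ (centralizer {QuotientGroup.mk' N x}).comap (QuotientGroup.mk' N) :=
      h3 ▸ mem_top y
    exact (mem_centralizer_singleton_iff.1 h4).symm
  have hcab : Commute (QuotientGroup.mk' N a) (QuotientGroup.mk' N b) := (hmk a b).2 h
  have ha := top a (Commute.refl _) hcab
  have hb := top b hcab.symm (Commute.refl _)
  have hall : ∀ x y, Commute (QuotientGroup.mk' N x) (QuotientGroup.mk' N y) :=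
    fun x => top x (ha x).symm (hb x).symm
  rw [commutator_def, commutator_le]
  intro x _ y _
  exact (hmk x y).1 (hall x y)

omit [Finite D] in
theorem mem_zp {z x : D} (hz : z * z = 1) (hx : x ∈ zpowers z) : x = 1 ∨ x = z := by
  obtain ⟨k, rfl⟩ := mem_zpowers_iff.1 hx
  have h2 : z ^ (2 : ℤ) = 1 := by
    rw [zpow_ofNat, pow_two]
    exact hz
  rcases Int.even_or_odd' k with ⟨m, rfl | rfl⟩
  · left
    rw [zpow_mul, h2, one_zpow]
  · right
    rw [zpow_add, zpow_mul, h2, one_zpow, one_mul, zpow_one]

omit [Finite D] in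
theorem card_zp {z : D} (hz : z * z = 1) : Nat.card (zpowers z) ≤ 2 := by
  rw [Nat.card_zpowers]
  exact orderOf_le_of_pow_eq_one (by norm_num) (by rw [pow_two]; exact hz)

/-- **T8** -/
theorem T8 {D : Type*} [Group D] [Finite D] (hG : Good D) (hna : ∃ a b : D, a * b ≠ b * a)
    (α : MulAut D) (hodd : Odd (orderOf α)) : α = 1 := by
  have : Fact (Nat.Prime 2) := ⟨Nat.prime_two⟩
  by_contra h1
  have hc : Nat.card D = 2 ^ 6 := by rw [hG.card]; norm_num
  have h2 : IsPGroup 2 D := IsPGroup.of_card hc
  have hnt : Nontrivial D := by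
    obtain ⟨a, b, hab⟩ := hna
    by_contra hn
    rw [not_nontrivial_iff_subsingleton] at hn
    exact hab (Subsingleton.elim _ _)
  have h3 := cube h2 hnt hG.gen hodd h1
  have h4 := card_ab h2 hG.gen hodd h1 h3
  have h5 : Nat.card (Abelianization D) = (commutator D).index := rfl
  rw [h5] at h4
  have h6 : (commutator D).index ∣ 2 ^ 6 := hc ▸ index_dvd_card _
  obtain ⟨k, hk6, hk⟩ := (Nat.dvd_prime_pow Nat.prime_two).1 h6
  have hcm := card_mul_index (commutator D)
  rw [hc, hk] at hcm
  rw [hk] at h4
  -- the commutator subgroup of a group with two generators and central commutator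
  obtain ⟨a, b, hab⟩ := id hG.gen
  interval_cases k
  · -- index one
    have h7 : commutator D = ⊤ := index_eq_one.1 (by rw [hk]; norm_num)
    have h8 : Group.IsSolvable D := by
      have := h2.isNilpotent
      infer_instance
    exact (Group.IsSolvable.commutator_lt_top_of_nontrivial D).ne h7
  · norm_num at h4
  · -- index four
    obtain ⟨C, hCi, hC, -⟩ := Cfsg.Agent.H530.Kul.structure_of_index_four hc (by norm_num)
      (by rw [hk]; norm_num)
    have hCc : Nat.card C = 32 := by
      have := card_mul_index C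
      rw [hCi, hG.card] at this
      omega
    obtain ⟨g, hg⟩ := hC.exists_generator
    have hg2 : orderOf g = 32 := by
      rw [← hCc]; exact orderOf_eq_card_of_forall_mem_zpowers hg
    have hg3 : g ^ 8 = 1 := Subtype.ext (by simpa using hG.exp (g : D))
    have := orderOf_dvd_of_pow_eq_one hg3
    rw [hg2] at this
    norm_num at this
  · norm_num at h4
  · -- index sixteen
    have hD4 : Nat.card (commutator D) = 4 := by omega
    obtain ⟨z, hzD, hzc, hz1⟩ :=
      Cfsg.Agent.Transfer.TausskyTwoGroup.exists_ne_one_mem_inf_center h2 (commutator D)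
        (by intro h; rw [h, card_bot] at hD4; omega)
    have hzz := hG.centre z hzc
    have hle : zpowers z ≤ commutator D := zpowers_le.2 hzD
    obtain ⟨c, hcD, hcz⟩ : ∃ c ∈ commutator D, c ∉ zpowers z := by
      by_contra hno
      push Not at hno
      have := Subgroup.card_le_of_le hno
      have := card_zp hzz
      omega
    have hc1 : c ≠ 1 := by rintro rfl; exact hcz (one_mem _)
    have hidx : ((zpowers z).subgroupOf (commutator D)).index = 2 := by
      have h7 := card_mul_index ((zpowers z).subgroupOf (commutator D))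
      rw [hD4, Nat.card_congr (subgroupOfEquivOfLe hle).toEquiv, Nat.card_zpowers,
        orderOf_eq_prime (p := 2) (by rw [pow_two]; exact hzz) hz1] at h7
      omega
    have hcov : ∀ x ∈ commutator D, x = 1 ∨ x = z ∨ x = c ∨ x = c * z := by
      intro x hx
      by_cases hxz : x ∈ zpowers z
      · rcases mem_zp hzz hxz with h | h
        · exact Or.inl h
        · exact Or.inr (Or.inl h)
      · have h7 := (mul_mem_iff_of_index_two hidx (a := ⟨c, hcD⟩⁻¹) (b := ⟨x, hx⟩)).2
          (by rw [inv_mem_iff]; simp only [mem_subgroupOf]; tauto)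
        have h8 : c⁻¹ * x ∈ zpowers z := h7
        rcases mem_zp hzz h8 with h | h
        · exact Or.inr (Or.inr (Or.inl (inv_mul_eq_one.1 h).symm))
        · exact Or.inr (Or.inr (Or.inr (eq_mul_of_inv_mul_eq h)))
    have hCchar : (centralizer (commutator D : Set D)).Characteristic := inferInstance
    have hCmap := characteristic_iff_map_eq.1 hCchar α
    have hCmem : ∀ g : D, g * c = c * g → g ∈ centralizer (commutator D : Set D) := by
      intro g hg
      rw [mem_centralizer_iff]
      intro x hx
      have hgz : g * z = z * g := mem_center_iff.1 hzc g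
      rcases hcov x hx with rfl | rfl | rfl | rfl
      · simp
      · exact hgz.symm
      · exact hg.symm
      · rw [mul_assoc, ← hgz, ← mul_assoc, ← hg, mul_assoc]
    have hconj : ∀ g : D, g * c ≠ c * g → g * c = c * g * z := by
      intro g hg
      have h7 : g * c * g⁻¹ ∈ commutator D := Normal.conj_mem inferInstance c hcD g
      rcases hcov _ h7 with h | h | h | h
      · exact absurd (by simpa [mul_inv_eq_one] using h) hc1
      · exfalso
        have h8 : g * c = z * g := by rw [← h]; group
        rw [← mem_center_iff.1 hzc g] at h8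
        exact hcz (mul_left_cancel h8 ▸ mem_zpowers z)
      · exact absurd (by rw [mul_inv_eq_iff_eq_mul] at h; exact h) hg
      · rw [mul_inv_eq_iff_eq_mul, mul_assoc, ← mem_center_iff.1 hzc g, ← mul_assoc] at h
        exact h
    have hCtop : centralizer (commutator D : Set D) = ⊤ := by
      by_contra hne
      refine no_inv h2 hG.gen hodd h1 ?_ hCmap
      rw [index_eq_two_iff_exists_notMem_and]
      obtain ⟨g, hg⟩ : ∃ g, g ∉ centralizer (commutator D : Set D) := by
        by_contra hno
        push Not at hno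
        exact hne (eq_top_iff.2 fun x _ => hno x)
      refine ⟨g, hg, fun x => ?_⟩
      by_contra hno
      rw [not_or] at hno
      have h7 := hconj g (fun h => hg (hCmem g h))
      have h8 := hconj x (fun h => hno.2 (hCmem x h))
      apply hno.1
      apply hCmem
      calc x * g * c = x * (g * c) := mul_assoc _ _ _
        _ = x * c * (g * z) := by rw [h7]; simp only [mul_assoc]
        _ = c * x * z * (z * g) := by rw [h8, mem_center_iff.1 hzc g]
        _ = c * x * (z * z) * g := by simp only [mul_assoc]
        _ = c * (x * g) := by rw [hzz]; simp only [mul_assoc, one_mul]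
    have hw : ⁅a, b⁆ ∈ commutator D := commutator_mem_commutator (mem_top a) (mem_top b)
    have hwc : ∀ x ∈ commutator D, x ∈ center D := by
      intro x hx
      rw [mem_center_iff]
      intro g
      have h7 : g ∈ centralizer (commutator D : Set D) := hCtop ▸ mem_top g
      exact (mem_centralizer_iff.1 h7 x hx).symm
    have hwn : (zpowers ⁅a, b⁆).Normal := by
      constructor
      intro n hn g
      have h7 : n ∈ center D := hwc n (zpowers_le.2 hw hn)
      rw [mem_center_iff.1 h7 g, mul_assoc, mul_inv_cancel, mul_one]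
      exact hn
    have h7 := Subgroup.card_le_of_le (comm_le hab (zpowers ⁅a, b⁆) (mem_zpowers _))
    have h8 := card_zp (hG.centre _ (hwc _ hw))
    omega
  · norm_num at h4
  · -- abelian
    have h7 : Nat.card (commutator D) = 1 := by omega
    have h8 : commutator D = ⊥ := card_eq_one.1 h7
    obtain ⟨x, y, hxy⟩ := hna
    apply hxy
    have h9 : ⁅x, y⁆ ∈ commutator D := commutator_mem_commutator (mem_top x) (mem_top y)
    rw [h8, mem_bot] at h9
    exact commutatorElement_eq_one_iff_mul_comm.1 h9

end Cfsg.Agent.H887.Two
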